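import Groth.Agent.Lib.Helper90.DTen.BC.Beta
import Groth.Agent.Lib.Helper60.BiDualA

/-!
# Naturality of the complex-level base change map `beta` in the first variable (helper90)
-/

set_option autoImplicit false
set_option linter.style.haveILetI false
set_option backward.isDefEq.respectTransparency false
universe u
open CategoryTheory CategoryTheory.Limits MonoidalCategory CochainComplex CochainComplex.HomComplex
open scoped TensorProduct ChangeOfRings
attribute [local instance] HasDerivedCategory.standard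

namespace Groth.Agent.Lib.Helper90.DualBC

open _root_.DTen Groth.Agent.Lib.Helper90.DTen Groth.Agent.Lib.Helper90.DTen.BC
  Groth.Agent.Lib.Helper35.RHomKInj Groth.Agent.Lib.Helper60.BiDual

variable {R R' : Type u} [CommRing R] [CommRing R'] (φ : R →+* R')

lemma beta_naturality {K₁ K₂ : DRing.Cx R} (g : K₁ ⟶ K₂) (N : DRing.Cx R) :
    (extCx φ).map (homCxPre g N) ≫ beta φ K₁ N =
      beta φ K₂ N ≫ homCxPre ((extCx φ).map g) ((extCx φ).obj N) := by
  refine HomologicalComplex.hom_ext _ _ (fun n => ?_)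
  apply ModuleCat.ExtendScalars.hom_ext
  intro z
  refine Cochain.ext _ _ (fun p q hpq => ?_)
  apply ModuleCat.ExtendScalars.hom_ext
  intro x
  have hL : ((((extCx φ).map (homCxPre g N) ≫ beta φ K₁ N).f n).hom ((1 : R') ⊗ₜ[R,φ] z)) =
      ((beta φ K₁ N).f n).hom ((1 : R') ⊗ₜ[R,φ] (((homCxPre g N).f n).hom z)) := rfl
  have hR : (((beta φ K₂ N ≫ homCxPre ((extCx φ).map g) ((extCx φ).obj N)).f n).hom
      ((1 : R') ⊗ₜ[R,φ] z)) =
      ((homCxPre ((extCx φ).map g) ((extCx φ).obj N)).f n).hom
        (((beta φ K₂ N).f n).hom ((1 : R') ⊗ₜ[R,φ] z)) := rfl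
  erw [hL, hR]
  have h1 := beta_one_tmul φ K₁ N n p q hpq (((homCxPre g N).f n).hom z) x
  erw [h1]
  erw [homCxPre_f_apply, homCxPre_f_apply]
  rw [Cochain.zero_cochain_comp_v, Cochain.zero_cochain_comp_v, Cochain.ofHom_v, Cochain.ofHom_v]
  have h2 := beta_one_tmul φ K₂ N n p q hpq z ((g.f p).hom x)
  exact h2.symm

end Groth.Agent.Lib.Helper90.DualBC
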