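import Groth.Agent.Lib.Helper90.DualBC.BetaNat
import Groth.Agent.Lib.Helper60.BiDualE
import Groth.Agent.Lib.Helper6.RHomKProj
import Groth.Agent.Lib.Helper26.AdjKProj
import Groth.Agent.Lib.Helper32.LBC
import Groth.Agent.Lib.Helper6.HomBC6
import Groth.Agent.Lib.Helper6.Resol3

/-!
# The comparison map `(Hom•(X, I))_{R'} ⟶ Hom•(X_{R'}, J)` (helper90)

For a flat ring map `φ : R → R'`, a complex `I` over `R`, a complex `J` over `R'` and a map
`j : I_{R'} ⟶ J`, the map `cmp` is natural in `X`; it is a quasi-isomorphism for bounded above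
complexes of finite projective modules when `j` is a quasi-isomorphism and `I` is bounded below.
-/

set_option autoImplicit false
set_option linter.style.haveILetI false
set_option backward.isDefEq.respectTransparency false
universe u
open CategoryTheory CategoryTheory.Limits MonoidalCategory CochainComplex CochainComplex.HomComplex
open scoped TensorProduct ChangeOfRings
attribute [local instance] HasDerivedCategory.standard

namespace Groth.Agent.Lib.Helper90.DualBC

open _root_.DTen Groth.Agent.Lib.Helper90.DTen Groth.Agent.Lib.Helper90.DTen.BC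
  Groth.Agent.Lib.Helper35.RHomKInj Groth.Agent.Lib.Helper60.BiDual

section pre

variable {A : Type u} [CommRing A]

lemma homCxPre_homCxMap {X₁ X₂ : DRing.Cx A} (g : X₁ ⟶ X₂) {N N' : DRing.Cx A} (f : N ⟶ N') :
    homCxPre g N ≫ DRing.homCxMap X₁ f = DRing.homCxMap X₂ f ≫ homCxPre g N' := by
  refine HomologicalComplex.hom_ext _ _ (fun n => ?_)
  refine ModuleCat.hom_ext (LinearMap.ext fun (z : Cochain X₂ N n) => ?_)
  change ((Cochain.ofHom g).comp z (zero_add n)).comp (Cochain.ofHom f) (add_zero n) =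
    (Cochain.ofHom g).comp (z.comp (Cochain.ofHom f) (add_zero n)) (zero_add n)
  rw [Cochain.comp_assoc_of_first_is_zero_cochain]

end pre

variable {R R' : Type u} [CommRing R] [CommRing R'] (φ : R →+* R')
  (I : DRing.Cx R) (J : DRing.Cx R') (j : (extCx φ).obj I ⟶ J)

/-- the comparison map `(Hom•(X, I))_{R'} ⟶ Hom•(X_{R'}, J)`. -/
noncomputable def cmp (X : DRing.Cx R) :
    (extCx φ).obj (DRing.homCx X I) ⟶ DRing.homCx ((extCx φ).obj X) J :=
  beta φ X I ≫ DRing.homCxMap _ j

lemma cmp_naturality {X₁ X₂ : DRing.Cx R} (g : X₁ ⟶ X₂) :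
    (extCx φ).map (homCxPre g I) ≫ cmp φ I J j X₁ =
      cmp φ I J j X₂ ≫ homCxPre ((extCx φ).map g) J := by
  dsimp only [cmp]
  rw [← Category.assoc, beta_naturality, Category.assoc, Category.assoc, homCxPre_homCxMap]

section flat

variable (hφ : φ.Flat)

include hφ in
lemma quasiIso_extCx_map {X Y : DRing.Cx R} (g : X ⟶ Y) [QuasiIso g] :
    QuasiIso ((extCx φ).map g) := by
  haveI : PreservesFiniteLimits (ModuleCat.extendScalars.{u, u, u} φ) :=
    ModuleCat.preservesFiniteLimits_extendScalars_of_flat hφ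
  haveI : (ModuleCat.extendScalars.{u, u, u} φ).PreservesHomology := inferInstance
  infer_instance

variable [I.IsKInjective] [J.IsKInjective]

include hφ in
/-- invariance of the quasi-isomorphism property of `cmp` under quasi-isomorphisms. -/
lemma quasiIso_cmp_iff_of_quasiIso {X₁ X₂ : DRing.Cx R} (g : X₁ ⟶ X₂) [QuasiIso g] :
    QuasiIso (cmp φ I J j X₁) ↔ QuasiIso (cmp φ I J j X₂) := by
  have h1 : QuasiIso (homCxPre g I) := quasiIso_homCxPre g I
  have h2 : QuasiIso ((extCx φ).map (homCxPre g I)) := quasiIso_extCx_map φ hφ _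
  have h3 : QuasiIso ((extCx φ).map g) := quasiIso_extCx_map φ hφ g
  have h4 : QuasiIso (homCxPre ((extCx φ).map g) J) := quasiIso_homCxPre _ J
  have hn := cmp_naturality φ I J j g
  constructor
  · intro h
    have h5 : QuasiIso ((extCx φ).map (homCxPre g I) ≫ cmp φ I J j X₁) := inferInstance
    rw [hn] at h5
    exact quasiIso_of_comp_right (cmp φ I J j X₂) (homCxPre ((extCx φ).map g) J)
  · intro h
    have h5 : QuasiIso (cmp φ I J j X₂ ≫ homCxPre ((extCx φ).map g) J) := inferInstance
    rw [← hn] at h5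
    exact quasiIso_of_comp_left ((extCx φ).map (homCxPre g I)) (cmp φ I J j X₁)

end flat

section pc

variable [QuasiIso j]

/-- `cmp` is a quasi-isomorphism on bounded above complexes of finite projective modules. -/
lemma quasiIso_cmp_of_finiteProjective (a : ℤ) [I.IsStrictlyGE a] (G : DRing.Cx R) (b : ℤ)
    (hb : DRing.VanishesAbove G b)
    (hfp : ∀ q, Module.Finite R (G.X q) ∧ Module.Projective R (G.X q)) :
    QuasiIso (cmp φ I J j G) := by
  have hfin : ∀ n : ℤ, ∃ S : Finset ℤ,
      ∀ q, q ∉ S → Subsingleton (G.X q) ∨ Subsingleton (I.X (q + n)) := by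
    intro n
    refine ⟨Finset.Icc (a - n) b, fun q hq => ?_⟩
    rw [Finset.mem_Icc] at hq
    by_cases h : b < q
    · exact Or.inl (ModuleCat.subsingleton_of_isZero (hb q h))
    · exact Or.inr (ModuleCat.subsingleton_of_isZero
        (I.isZero_of_isStrictlyGE a (q + n) (by omega)))
  haveI := isIso_beta φ G I hfp hfin
  haveI : G.IsKProjective :=
    Groth.Agent.Lib.Helper32.LBC.isKProjective_of_vanishesAbove G b hb (fun i => (hfp i).2)
  haveI : ((extCx φ).obj G).IsKProjective :=
    Groth.Agent.Lib.Helper26.AdjKProj.isKProjective_map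
      (ModuleCat.extendRestrictScalarsAdj.{u, u, u} φ) G
  haveI : QuasiIso (DRing.homCxMap ((extCx φ).obj G) j) :=
    Groth.Agent.Lib.Helper6.RHomKProj.quasiIso_homCxMap _ j
  dsimp only [cmp]
  infer_instance

end pc

section bddAbove

variable (hφ : φ.Flat) [I.IsKInjective] [J.IsKInjective] [QuasiIso j] [IsNoetherianRing R]

include hφ in
/-- `cmp` is a quasi-isomorphism on cohomologically bounded above complexes with finite
cohomology. -/
lemma quasiIso_cmp_of_isLE (a : ℤ) [I.IsStrictlyGE a] (Y : DRing.Cx R) (b : ℤ)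
    [(DerivedCategory.Q.obj Y : Dual.D R).IsLE b]
    (hfin : ∀ i : ℤ, Module.Finite R (Dual.HD R (DRing.toD Y) i)) :
    QuasiIso (cmp φ I J j Y) := by
  have hpc : DRing.IsPseudoCoherent' R (DerivedCategory.Q.obj Y) :=
    Groth.Agent.Lib.Helper6.Resol.isPC'_of_forall_isPC _ (fun m =>
      Groth.Agent.Lib.Helper6.HomBC.isPC_of_finite_homology _ b hfin m)
  obtain ⟨G, b', hb', hG, ⟨e⟩⟩ := hpc
  have hfp : ∀ q, Module.Finite R (G.X q) ∧ Module.Projective R (G.X q) := fun q => by
    haveI := (hG q).2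
    exact ⟨(hG q).1, inferInstance⟩
  haveI : G.IsKProjective :=
    Groth.Agent.Lib.Helper32.LBC.isKProjective_of_vanishesAbove G b' hb' (fun i => (hfp i).2)
  obtain ⟨g, hg⟩ := Groth.Agent.Lib.Helper6.ExtCocycle.exists_map_eq (F := G) (Y := Y) e.hom
  haveI : QuasiIso g := by
    rw [← DerivedCategory.isIso_Q_map_iff_quasiIso, hg]
    infer_instance
  rw [← quasiIso_cmp_iff_of_quasiIso φ I J j hφ g]
  exact quasiIso_cmp_of_finiteProjective φ I J j a G b' hb' hfp

end bddAbove

section wayOut

variable (hφ : φ.Flat)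

include hφ in
lemma shortExact_map_extCx (S : ShortComplex (DRing.Cx R)) (hS : S.ShortExact) :
    (S.map (extCx φ)).ShortExact := by
  haveI : PreservesFiniteLimits (ModuleCat.extendScalars.{u, u, u} φ) :=
    ModuleCat.preservesFiniteLimits_extendScalars_of_flat hφ
  have hSi := (HomologicalComplex.shortExact_iff_degreewise_shortExact S).mp hS
  apply HomologicalComplex.shortExact_of_degreewise_shortExact
  intro i
  exact (hSi i).map_of_exact (ModuleCat.extendScalars.{u, u, u} φ)

lemma isStrictlyGE_extCx (T : DRing.Cx R) (n : ℤ) [T.IsStrictlyGE n] :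
    ((extCx φ).obj T).IsStrictlyGE n := by
  rw [CochainComplex.isStrictlyGE_iff]
  intro i hi
  exact (ModuleCat.extendScalars.{u, u, u} φ).map_isZero (T.isZero_of_isStrictlyGE n i hi)

lemma isStrictlyLE_extCx (T : DRing.Cx R) (n : ℤ) [T.IsStrictlyLE n] :
    ((extCx φ).obj T).IsStrictlyLE n := by
  rw [CochainComplex.isStrictlyLE_iff]
  intro i hi
  exact (ModuleCat.extendScalars.{u, u, u} φ).map_isZero (T.isZero_of_isStrictlyLE n i hi)

variable [I.IsKInjective] [J.IsKInjective] [QuasiIso j] [IsNoetherianRing R]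
  (hI : ∀ i : ℤ, Injective (I.X i)) (hJ : ∀ i : ℤ, Injective (J.X i))

include hφ hI hJ in
/-- **Flat base change for `Hom•(-, dualizing)`**: `cmp` is a quasi-isomorphism on every complex
with finite cohomology modules (no boundedness), when `I` and `J` are bounded complexes of
injectives. -/
theorem quasiIso_cmp_of_finite (a b b' : ℤ) [I.IsStrictlyGE a] [I.IsStrictlyLE b]
    [J.IsStrictlyLE b'] (X : DRing.Cx R)
    (hfin : ∀ i : ℤ, Module.Finite R (Dual.HD R (DRing.toD X) i)) :
    QuasiIso (cmp φ I J j X) := by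
  rw [quasiIso_iff]
  intro m
  let n₁ : ℤ := max (b - m) (b' - m) + 1
  have hn₁ : b - (n₁ + 1) < m := by
    have := le_max_left (b - m) (b' - m)
    omega
  have hn₁' : b' - (n₁ + 1) < m := by
    have := le_max_right (b - m) (b' - m)
    omega
  let S := X.shortComplexTruncLE n₁
  have hS : S.ShortExact := X.shortComplexTruncLE_shortExact n₁
  let T := X.truncGE (n₁ + 1)
  let t : S.X₃ ⟶ T := X.shortComplexTruncLEX₃ToTruncGE n₁ (n₁ + 1) rfl
  haveI : QuasiIso t := inferInstanceAs (QuasiIso (X.shortComplexTruncLEX₃ToTruncGE n₁ (n₁ + 1) rfl))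
  haveI : T.IsStrictlyGE (n₁ + 1) := inferInstanceAs ((X.truncGE (n₁ + 1)).IsStrictlyGE (n₁ + 1))
  -- side 1
  have hS₁ : ((GSC S I).map (extCx φ)).ShortExact :=
    shortExact_map_extCx φ hφ _ (GSC_shortExact S hS I hI)
  have e1 : ∀ i : ℤ, b - (n₁ + 1) < i → ((GSC S I).map (extCx φ)).X₁.ExactAt i := by
    intro i hi
    haveI : QuasiIso (homCxPre t I) := quasiIso_homCxPre t I
    haveI : QuasiIso ((extCx φ).map (homCxPre t I)) := quasiIso_extCx_map φ hφ _
    change ((extCx φ).obj (DRing.homCx S.X₃ I)).ExactAt i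
    rw [← exactAt_iff_of_quasiIsoAt ((extCx φ).map (homCxPre t I)) i]
    haveI := isStrictlyLE_homCx T I (n₁ + 1) b
    haveI := isStrictlyLE_extCx φ (DRing.homCx T I) (b - (n₁ + 1))
    exact exactAt_of_isZero_X _ _ (isZero_of_isStrictlyLE _ (b - (n₁ + 1)) i hi)
  have q1 : QuasiIsoAt ((extCx φ).map (homCxPre S.f I)) m :=
    quasiIsoAt_g_of_exactAt hS₁ m (e1 m hn₁) (e1 (m + 1) (by omega))
  -- side 2
  have hS₂ : (GSC (S.map (extCx φ)) J).ShortExact :=
    GSC_shortExact _ (shortExact_map_extCx φ hφ S hS) J hJ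
  have e2 : ∀ i : ℤ, b' - (n₁ + 1) < i → (GSC (S.map (extCx φ)) J).X₁.ExactAt i := by
    intro i hi
    haveI : QuasiIso ((extCx φ).map t) := quasiIso_extCx_map φ hφ t
    haveI : QuasiIso (homCxPre ((extCx φ).map t) J) := quasiIso_homCxPre _ J
    change (DRing.homCx ((extCx φ).obj S.X₃) J).ExactAt i
    rw [← exactAt_iff_of_quasiIsoAt (homCxPre ((extCx φ).map t) J) i]
    haveI := isStrictlyGE_extCx φ T (n₁ + 1)
    haveI := isStrictlyLE_homCx ((extCx φ).obj T) J (n₁ + 1) b'
    exact exactAt_of_isZero_X _ _ (isZero_of_isStrictlyLE _ (b' - (n₁ + 1)) i hi)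
  have q2 : QuasiIsoAt (homCxPre ((extCx φ).map S.f) J) m :=
    quasiIsoAt_g_of_exactAt hS₂ m (e2 m hn₁') (e2 (m + 1) (by omega))
  -- the truncation
  have hfinX : ∀ i : ℤ, Module.Finite R (X.homology i) := fun i => by
    have := hfin i
    exact Module.Finite.equiv (hQIso X i).toLinearEquiv
  haveI : (X.truncLE n₁).IsStrictlyLE n₁ := inferInstance
  haveI : (DerivedCategory.Q.obj (X.truncLE n₁) : Dual.D R).IsLE n₁ := inferInstance
  have hfinT : ∀ i : ℤ, Module.Finite R (Dual.HD R (DRing.toD (X.truncLE n₁)) i) := by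
    intro i
    have h1 : Module.Finite R ((X.truncLE n₁).homology i) := by
      by_cases hi : i ≤ n₁
      · have := hfinX i
        exact Module.Finite.equiv (homologyTruncLEIso X n₁ i hi).symm.toLinearEquiv
      · have : Subsingleton ((X.truncLE n₁).homology i) :=
          ModuleCat.subsingleton_of_isZero (exactAt_truncLE X n₁ i (by omega)).isZero_homology
        infer_instance
    exact Module.Finite.equiv (hQIso (X.truncLE n₁) i).symm.toLinearEquiv
  have q3 : QuasiIso (cmp φ I J j (X.truncLE n₁)) :=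
    quasiIso_cmp_of_isLE φ I J j hφ a (X.truncLE n₁) n₁ hfinT
  have hn := cmp_naturality φ I J j S.f
  have q4 : QuasiIsoAt (cmp φ I J j S.X₂ ≫ homCxPre ((extCx φ).map S.f) J) m := by
    rw [← hn]
    haveI : QuasiIsoAt (cmp φ I J j S.X₁) m := by
      change QuasiIsoAt (cmp φ I J j (X.truncLE n₁)) m
      infer_instance
    infer_instance
  exact quasiIsoAt_of_comp_right (cmp φ I J j S.X₂) (homCxPre ((extCx φ).map S.f) J) m

end wayOut

end Groth.Agent.Lib.Helper90.DualBC
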