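import Groth.Agent.Lib.Helper6.RDual1
import Groth.Agent.Lib.Helper60.BiDualA

/-!
# `Hom_R(S, Hom•_R(U, J)) ≅ Hom•_S(S ⊗_R U, Hom_R(S, J))` as complexes of `S`-modules (helper90)
-/

set_option autoImplicit false
set_option linter.style.haveILetI false
set_option backward.isDefEq.respectTransparency false
universe u
open CategoryTheory CategoryTheory.Limits CochainComplex CochainComplex.HomComplex
open scoped TensorProduct ChangeOfRings
attribute [local instance] HasDerivedCategory.standard

namespace Groth.Agent.Lib.Helper90.DualBC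

open Groth.Agent.Lib.Helper35.RHomKInj Groth.Agent.Lib.Helper60.BiDual
  Groth.Agent.Lib.Helper6.RDual Groth.Agent.Lib.Helper6.DerivedAdj
  Groth.Agent.Lib.Helper26.AdjKProj

variable {R S : Type u} [CommRing R] [CommRing S] (φ : R →+* S)

/-- termwise restriction of scalars -/
noncomputable abbrev rC : DRing.Cx S ⥤ DRing.Cx R :=
  (ModuleCat.restrictScalars.{u} φ).mapHomologicalComplex (ComplexShape.up ℤ)

/-- termwise extension of scalars -/
noncomputable abbrev eC : DRing.Cx R ⥤ DRing.Cx S :=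
  (ModuleCat.extendScalars.{u, u, u} φ).mapHomologicalComplex (ComplexShape.up ℤ)

section mapRes

variable (V W : DRing.Cx S)

/-- restriction of scalars on cochains, as a linear map. -/
noncomputable def mapResLin (n : ℤ) :
    (ModuleCat.restrictScalars.{u} φ).obj (ModuleCat.of S (Cochain V W n)) →ₗ[R]
      Cochain ((rC φ).obj V) ((rC φ).obj W) n where
  toFun z := Cochain.map (show Cochain V W n from z) (ModuleCat.restrictScalars.{u} φ)
  map_add' z z' := Cochain.map_add _ _ _
  map_smul' r z := by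
    refine Cochain.ext _ _ (fun p q hpq => ?_)
    rfl

/-- restriction of scalars `Hom•_S(V, W) ⟶ Hom•_R(V, W)`. -/
noncomputable def mapRes :
    (rC φ).obj (DRing.homCx V W) ⟶ DRing.homCx ((rC φ).obj V) ((rC φ).obj W) where
  f n := ModuleCat.ofHom
    (X := (ModuleCat.restrictScalars.{u} φ).obj (ModuleCat.of S (Cochain V W n)))
    (Y := ModuleCat.of R (Cochain ((rC φ).obj V) ((rC φ).obj W) n)) (mapResLin φ V W n)
  comm' i j _ := by
    ext z
    exact (δ_map i j (show Cochain V W i from z) (ModuleCat.restrictScalars.{u} φ)).symm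

end mapRes

section psi

variable (U J : DRing.Cx R)

/-- the adjunction `ext ⊣ res`. -/
noncomputable abbrev adjE := ModuleCat.extendRestrictScalarsAdj.{u, u, u} φ

/-- the `R`-linear map `Hom•_S(S ⊗ U, Hom_R(S, J)) ⟶ Hom•_R(U, J)`, `g ↦ (u ↦ g (1 ⊗ u) 1)`. -/
noncomputable def psi0 :
    (rC φ).obj (DRing.homCx ((eC φ).obj U) (coextC φ J)) ⟶ DRing.homCx U J :=
  mapRes φ ((eC φ).obj U) (coextC φ J) ≫
    homCxPre ((unitC (adjE φ) (ComplexShape.up ℤ)).app U) ((rC φ).obj (coextC φ J)) ≫
    DRing.homCxMap U (epsC φ J)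

/-- the `S`-linear map `Hom•_S(S ⊗ U, Hom_R(S, J)) ⟶ Hom_R(S, Hom•_R(U, J))`. -/
noncomputable def psi :
    DRing.homCx ((eC φ).obj U) (coextC φ J) ⟶ coextC φ (DRing.homCx U J) :=
  adjunct (adj0 φ) (psi0 φ U J)

lemma psi0_f_apply (n : ℤ) (g : Cochain ((eC φ).obj U) (coextC φ J) n) :
    (show Cochain U J n from ((psi0 φ U J).f n).hom g) =
      ((Cochain.ofHom ((unitC (adjE φ) (ComplexShape.up ℤ)).app U)).comp
        (g.map (ModuleCat.restrictScalars.{u} φ)) (zero_add n)).comp
          (Cochain.ofHom (epsC φ J)) (add_zero n) := rfl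

lemma psi0_apply (n : ℤ) (g : Cochain ((eC φ).obj U) (coextC φ J) n) (p q : ℤ) (hpq : p + n = q)
    (u : U.X p) :
    (((show Cochain U J n from ((psi0 φ U J).f n).hom g)).v p q hpq).hom u =
      (show (ModuleCat.coextendScalars.{u, u, u} φ).obj (J.X q) from
        (g.v p q hpq).hom ((1 : S) ⊗ₜ[R,φ] u)) (1 : S) := by
  rw [psi0_f_apply, Cochain.comp_zero_cochain_v, Cochain.zero_cochain_comp_v, Cochain.ofHom_v,
    Cochain.ofHom_v, Cochain.map_v]
  rfl

lemma psi_f_apply (n : ℤ) (g : Cochain ((eC φ).obj U) (coextC φ J) n) (s : S) :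
    (show (ModuleCat.coextendScalars.{u, u, u} φ).obj ((DRing.homCx U J).X n) from
      ((psi φ U J).f n).hom g) s = ((psi0 φ U J).f n).hom (s • g) := rfl

/-- the key formula for `psi`. -/
lemma psi_apply (n : ℤ) (g : Cochain ((eC φ).obj U) (coextC φ J) n) (s : S) (p q : ℤ)
    (hpq : p + n = q) (u : U.X p) :
    (((show Cochain U J n from
      (show (ModuleCat.coextendScalars.{u, u, u} φ).obj ((DRing.homCx U J).X n) from
        ((psi φ U J).f n).hom g) s)).v p q hpq).hom u =
      (show (ModuleCat.coextendScalars.{u, u, u} φ).obj (J.X q) from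
        (g.v p q hpq).hom ((1 : S) ⊗ₜ[R,φ] u)) s := by
  rw [psi_f_apply]
  have h := psi0_apply φ U J n (s • g) p q hpq u
  refine h.trans ?_
  rw [Cochain.smul_v]
  change (show (ModuleCat.coextendScalars.{u, u, u} φ).obj (J.X q) from
    s • ((g.v p q hpq).hom ((1 : S) ⊗ₜ[R,φ] u))) (1 : S) = _
  rw [ModuleCat.CoextendScalars.smul_apply, one_mul]

lemma psi_f_injective (n : ℤ) : Function.Injective ((psi φ U J).f n).hom := by
  intro (g : Cochain ((eC φ).obj U) (coextC φ J) n) (g' : Cochain ((eC φ).obj U) (coextC φ J) n) h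
  refine Cochain.ext _ _ (fun p q hpq => ?_)
  apply ModuleCat.ExtendScalars.hom_ext
  intro u
  apply ModuleCat.CoextendScalars.ext
  apply LinearMap.ext
  intro s
  have h1 := psi_apply φ U J n g s p q hpq u
  have h2 := psi_apply φ U J n g' s p q hpq u
  rw [h] at h1
  exact h1.symm.trans h2

section surj

variable {U J} {n : ℤ}
  (f₀ : (ModuleCat.restrictScalars.{u} φ).obj (ModuleCat.of S S) →ₗ[R] Cochain U J n)

/-- auxiliary: the `R`-linear map `s ↦ (f₀ s)_{p,q} u`. -/
noncomputable def hInner (p q : ℤ) (hpq : p + n = q) (x : U.X p) :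
    (ModuleCat.restrictScalars.{u} φ).obj (ModuleCat.of S S) →ₗ[R] J.X q where
  toFun s := ((f₀ s).v p q hpq).hom x
  map_add' s₁ s₂ := by
    rw [map_add, Cochain.add_v, ModuleCat.hom_add, LinearMap.add_apply]
  map_smul' r s := by
    rw [map_smul, Cochain.smul_v, ModuleCat.hom_smul, LinearMap.smul_apply, RingHom.id_apply]

/-- auxiliary: the `R`-linear map `u ↦ (s ↦ (f₀ s)_{p,q} u)`. -/
noncomputable def hOuter (p q : ℤ) (hpq : p + n = q) :
    U.X p ⟶ (ModuleCat.restrictScalars.{u} φ).obj
      ((ModuleCat.coextendScalars.{u, u, u} φ).obj (J.X q)) :=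
  ModuleCat.ofHom (Y := (ModuleCat.restrictScalars.{u} φ).obj
      ((ModuleCat.coextendScalars.{u, u, u} φ).obj (J.X q)))
    { toFun := fun x => (ModuleCat.CoextendScalars.equiv φ (J.X q)).symm (hInner φ f₀ p q hpq x)
      map_add' := fun x₁ x₂ => by
        apply ModuleCat.CoextendScalars.ext
        apply LinearMap.ext
        intro s
        change ((f₀ s).v p q hpq).hom (x₁ + x₂) =
          ((f₀ s).v p q hpq).hom x₁ + ((f₀ s).v p q hpq).hom x₂
        rw [map_add]
      map_smul' := fun r x => by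
        apply ModuleCat.CoextendScalars.ext
        apply LinearMap.ext
        intro (s : S)
        change ((f₀ s).v p q hpq).hom (r • x) = ((f₀ (s * φ r : S)).v p q hpq).hom x
        have hs : (s * φ r : S) =
            (r • (show (ModuleCat.restrictScalars.{u} φ).obj (ModuleCat.of S S) from s)) := by
          rw [ModuleCat.restrictScalars.smul_def]
          exact mul_comm _ _
        rw [hs, map_smul, map_smul, Cochain.smul_v, ModuleCat.hom_smul, LinearMap.smul_apply] }

/-- the preimage cochain. -/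
noncomputable def gOf : Cochain ((eC φ).obj U) (coextC φ J) n :=
  Cochain.mk (fun p q hpq =>
    (ModuleCat.ExtendRestrictScalarsAdj.homEquiv.{u, u, u} φ).symm (hOuter φ f₀ p q hpq))

lemma gOf_v_one_tmul (p q : ℤ) (hpq : p + n = q) (x : U.X p) :
    ((gOf φ f₀).v p q hpq).hom ((1 : S) ⊗ₜ[R,φ] x) = (hOuter φ f₀ p q hpq).hom x := by
  have h := (ModuleCat.ExtendRestrictScalarsAdj.homEquiv.{u, u, u} φ).apply_symm_apply
    (hOuter φ f₀ p q hpq)
  have h2 := congrArg (fun t => t.hom x) h
  exact h2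

end surj

lemma psi_f_surjective (n : ℤ) : Function.Surjective ((psi φ U J).f n).hom := by
  intro (y : (ModuleCat.coextendScalars.{u, u, u} φ).obj ((DRing.homCx U J).X n))
  let f₀ : (ModuleCat.restrictScalars.{u} φ).obj (ModuleCat.of S S) →ₗ[R] Cochain U J n :=
    ModuleCat.CoextendScalars.equiv φ _ y
  refine ⟨gOf φ f₀, ?_⟩
  apply ModuleCat.CoextendScalars.ext
  apply LinearMap.ext
  intro (s : S)
  refine Cochain.ext _ _ (fun p q hpq => ?_)
  apply ModuleCat.hom_ext
  apply LinearMap.ext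
  intro x
  have h := psi_apply φ U J n (gOf φ f₀) s p q hpq x
  refine h.trans ?_
  rw [gOf_v_one_tmul]
  rfl

instance isIso_psi : IsIso (psi φ U J) := by
  have : ∀ n, IsIso ((psi φ U J).f n) := fun n =>
    (ConcreteCategory.isIso_iff_bijective _).2 ⟨psi_f_injective φ U J n, psi_f_surjective φ U J n⟩
  exact HomologicalComplex.Hom.isIso_of_components _

/-- **Coextension and `Hom•`**: `Hom_R(S, Hom•_R(U, J)) ≅ Hom•_S(S ⊗_R U, Hom_R(S, J))`. -/
noncomputable def coextHomIso :
    coextC φ (DRing.homCx U J) ≅ DRing.homCx ((eC φ).obj U) (coextC φ J) :=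
  (asIso (psi φ U J)).symm

end psi

end Groth.Agent.Lib.Helper90.DualBC
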