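import Groth.Prelude.Def_DRing4
import Mathlib.Algebra.Homology.HomotopyCategory.HomComplexShift

/-!
# `Hom•(X, C⟦a⟧) ≅ Hom•(X, C)⟦a⟧` (helper90)
-/

set_option autoImplicit false
universe u
open CategoryTheory CategoryTheory.Limits CochainComplex CochainComplex.HomComplex

namespace Groth.Agent.Lib.Helper90.DualBC

variable {A : Type u} [CommRing A] (X C : DRing.Cx A) (a : ℤ)

/-- `Hom•(X, C)⟦a⟧ ≅ Hom•(X, C⟦a⟧)`. -/
noncomputable def homCxShiftIso : (DRing.homCx X C)⟦a⟧ ≅ DRing.homCx X (C⟦a⟧) :=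
  HomologicalComplex.Hom.isoOfComponents
    (fun n => (Cochain.rightShiftLinearEquiv A X C (n + a) a n rfl).toModuleIso)
    (fun i j hij => by
      ext (γ : Cochain X C (i + a))
      change δ i j (γ.rightShift a i rfl) =
        (a.negOnePow • δ (i + a) (j + a) γ).rightShift a j rfl
      rw [Cochain.δ_rightShift γ a i j rfl (j + a) rfl, Cochain.rightShift_units_smul])

end Groth.Agent.Lib.Helper90.DualBC
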