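import Groth.Agent.Lib.Helper90.DTen.CxAdj
import Groth.Agent.Lib.Helper28.KProjFlat

/-!
# `Hom•(U, J)` is K-injective for `U` K-projective and `J` K-injective (helper90)
-/

set_option autoImplicit false
universe u
open CategoryTheory CategoryTheory.Limits MonoidalCategory CochainComplex CochainComplex.HomComplex

namespace Groth.Agent.Lib.Helper90.DualBC

open Groth.Agent.Lib.Helper90.DTen Groth.Agent.Lib.Helper26.TensorHomCx Groth.Agent.Lib.Helper28

variable {A : Type u} [CommRing A]

lemma curryHom_zero (K L Z : DRing.Cx A) : curryHom (0 : K ⊗ L ⟶ Z) = 0 := by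
  apply ofHom_injective
  rw [ofHom_curryHom, Cochain.ofHom_zero, Cochain.ofHom_zero, curry_zero]

theorem isKInjective_homCx (U J : DRing.Cx A) [U.IsKProjective] [J.IsKInjective] :
    (DRing.homCx U J).IsKInjective := by
  refine ⟨fun {Z} f hZ => ?_⟩
  have hac : (Z ⊗ U).Acyclic :=
    (TensCx.acyclic_iff _).2 (KProjFlat.kflat_of_isKProjective U Z ((TensCx.acyclic_iff Z).1 hZ))
  obtain ⟨h⟩ := IsKInjective.nonempty_homotopy_zero (uncurryHom f) hac
  have h2 := curryHomHomotopy h
  rw [curryHom_uncurryHom, curryHom_zero] at h2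
  exact ⟨h2⟩

end Groth.Agent.Lib.Helper90.DualBC
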