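import Groth.Agent.Lib.Helper90.DualBC.Cmp
import Groth.Agent.Lib.Helper90.DualBC.CoextHom
import Groth.Agent.Lib.Helper90.DualBC.HomShift
import Groth.Agent.Lib.Helper90.DualBC.KInjHom
import Groth.Agent.Lib.Helper35.LDVanish
import Groth.Agent.Lib.Helper35.HDIFlat
import Groth.Agent.S1819
import Groth.Agent.S11177

/-!
# `φ^!(K) ≅ D_B(D_A(K) ⊗^L_A B)` (helper90)
-/

set_option autoImplicit false
set_option linter.style.haveILetI false
set_option backward.isDefEq.respectTransparency false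
universe u
open CategoryTheory CategoryTheory.Limits CochainComplex CochainComplex.HomComplex DerivedCategory
attribute [local instance] HasDerivedCategory.standard

namespace Groth.Agent.Lib.Helper90.DualBC

open _root_.DTen Groth.Agent.Lib.Helper35.RHomKInj Groth.Agent.Lib.Helper60.BiDual
  Groth.Agent.Lib.Helper6.RDual Groth.Agent.Lib.Helper35 Groth.Agent.Lib.Helper6

section comp

variable {A P B : Type u} [CommRing A] [CommRing P] [CommRing B]
  (f : A →+* P) (g : P →+* B) (h : A →+* B) (hh : g.comp f = h)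

/-- `B ⊗_P (P ⊗_A E) ≅ B ⊗_A E` on complexes. -/
noncomputable def extCxCompIso' (E : DRing.Cx A) :
    (eC g).obj ((eC f).obj E) ≅ (eC h).obj E :=
  (NatIso.mapHomologicalComplex ((ModuleCat.extendScalarsComp.{u, u} f g).symm ≪≫
    eqToIso (show ModuleCat.extendScalars.{u, u, u} (g.comp f) = ModuleCat.extendScalars.{u, u, u} h by
      rw [hh])) (ComplexShape.up ℤ)).app E

end comp

section core

variable {A P B : Type u} [CommRing A] [CommRing P] [CommRing B] [IsNoetherianRing A]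
  (φP : A →+* P) (ψ : P →+* B) (φB : A →+* B) (hcomp : ψ.comp φP = φB) (hflat : φP.Flat)
  [DRing.HasLBaseChange φP] [DRing.HasLBaseChange φB]
  (Rψ : Dual.D P ⥤ Dual.D B) (adj : DRing.restrictD ψ ⊣ Rψ)

/-- a bounded complex of injectives representing an object of finite injective dimension. -/
lemma exists_injective_repr {R : Type u} [CommRing R] (ω : Dual.D R)
    (hω : Dual.IsDualizing R ω) :
    ∃ (I : DRing.Cx R) (a b : ℤ), DRing.VanishesOutside I a b ∧ (∀ i : ℤ, Injective (I.X i)) ∧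
      Nonempty (DRing.toD I ≅ ω) := by
  obtain ⟨a, b, hab⟩ := hω.finite_injective_dimension
  have h21 := (KL.IA_tfae ω a b).out 1 0
  have hIA : KL.IA a b ω := h21.1 (fun (N : ModuleCat.{u} R) i hi => hab N i hi)
  obtain ⟨I, hv, hinj, hι⟩ := hIA
  exact ⟨I, a, b, hv, hinj, hι⟩

include adj in
/-- `Rψ` on a K-injective complex is computed by termwise coextension. -/
lemma nonempty_Rψ_iso (H : DRing.Cx P) [H.IsKInjective] :
    Nonempty (Rψ.obj (Q.obj H) ≅ Q.obj (coextC ψ H)) := by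
  obtain ⟨θ, _⟩ := exists_iso_of_universal adj (Q.obj H) (Q.obj (coextC ψ H)) (eI ψ H)
    (bijective_Phi ψ H)
  exact ⟨θ.symm⟩

include hcomp hflat adj in
theorem core (ω : Dual.D A) (hω : Dual.IsDualizing A ω)
    (hωP : Dual.IsDualizing P ((DRing.LBaseChange φP).obj ω))
    (K : DRing.Cx A) [DRing.HasRHomCx K]
    (hK : ∀ i : ℤ, Module.Finite A (Dual.HD A (DRing.toD K) i))
    (E : DRing.Cx B) [DRing.HasRHomCx E]
    (hE : Nonempty (DRing.toD E ≅ (DRing.LBaseChange φB).obj ((DRing.RHomCx K).obj ω)))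
    (n : ℤ) :
    Nonempty ((Rψ.obj ((DRing.LBaseChange φP).obj (DRing.toD K)))⟦n⟧ ≅
      (DRing.RHomCx E).obj ((Rψ.obj ((DRing.LBaseChange φP).obj ω))⟦n⟧)) := by
  classical
  obtain ⟨eE⟩ := hE
  -- (1) injective representatives
  obtain ⟨I, a, b, hvI, hinjI, ⟨ι⟩⟩ := exists_injective_repr ω hω
  obtain ⟨J, a', b', hvJ, hinjJ, ⟨ιJ⟩⟩ := exists_injective_repr _ hωP
  haveI : I.IsStrictlyGE a := by
    rw [CochainComplex.isStrictlyGE_iff]
    exact fun i hi => hvI i (Or.inl hi)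
  haveI : I.IsStrictlyLE b := by
    rw [CochainComplex.isStrictlyLE_iff]
    exact fun i hi => hvI i (Or.inr hi)
  haveI : J.IsStrictlyGE a' := by
    rw [CochainComplex.isStrictlyGE_iff]
    exact fun i hi => hvJ i (Or.inl hi)
  haveI : J.IsStrictlyLE b' := by
    rw [CochainComplex.isStrictlyLE_iff]
    exact fun i hi => hvJ i (Or.inr hi)
  haveI hKI : I.IsKInjective := by
    haveI := hinjI
    exact CochainComplex.isKInjective_of_injective I a
  haveI hKJ : J.IsKInjective := by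
    haveI := hinjJ
    exact CochainComplex.isKInjective_of_injective J a'
  -- (2) a K-projective representative `F` of the dual `D = RHom(K, ω)`
  obtain ⟨hfinD, hbidual⟩ := Groth.Agent.S1819.result A ω hω K hK
  obtain ⟨F, π, hF, hπ⟩ := Groth.Agent.Lib.Helper32.KProjRes.exists_kProjective_resolution_moduleCat A
    (Q.objPreimage ((DRing.RHomCx K).obj ω))
  haveI := hF
  haveI := hπ
  haveI : IsIso (Q.map π) := by rw [isIso_Q_map_iff_quasiIso]; infer_instance
  let eF : DRing.toD F ≅ (DRing.RHomCx K).obj ω := asIso (Q.map π) ≪≫ Q.objObjPreimageIso _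
  haveI : DRing.HasRHomCx F := Groth.Agent.Lib.Helper35.LD.hasRHomCx_of_isKProjective F
  obtain ⟨e3⟩ := hbidual F ⟨eF⟩
  obtain ⟨e4⟩ := nonempty_rhom_iso F F (Iso.refl _) I
  let eK : DRing.toD K ≅ DRing.toD (DRing.homCx F I) :=
    e3.symm ≪≫ (DRing.RHomCx F).mapIso ι.symm ≪≫ e4
  have hfinF : ∀ i : ℤ, Module.Finite A (Dual.HD A (DRing.toD F) i) := fun i => by
    have := hfinD i
    exact Module.Finite.equiv
      ((DerivedCategory.homologyFunctor (ModuleCat.{u} A) i).mapIso eF).symm.toLinearEquiv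
  -- (3) the comparison `j : I_P ⟶ J`
  obtain ⟨eIP⟩ := HDIFlat.nonempty_lbc_iso_of_ringHomFlat φP hflat I
  let eJ : (Q.obj ((extCx φP).obj I) : Dual.D P) ≅ Q.obj J :=
    eIP.symm ≪≫ (DRing.LBaseChange φP).mapIso ι ≪≫ ιJ.symm
  obtain ⟨j, hj⟩ := CoextAdj.Q_map_surjective_of_isKInjective ((extCx φP).obj I) J eJ.hom
  haveI : QuasiIso j := by
    rw [← isIso_Q_map_iff_quasiIso, hj]
    infer_instance
  -- (4) flat base change of the dual
  have hq : QuasiIso (cmp φP I J j F) :=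
    quasiIso_cmp_of_finite φP I J j hflat hinjI hinjJ a b b' F hfinF
  haveI : IsIso (Q.map (cmp φP I J j F)) := by rw [isIso_Q_map_iff_quasiIso]; exact hq
  obtain ⟨eHP⟩ := HDIFlat.nonempty_lbc_iso_of_ringHomFlat φP hflat (DRing.homCx F I)
  let FP : DRing.Cx P := (extCx φP).obj F
  let H : DRing.Cx P := DRing.homCx FP J
  let eL : (DRing.LBaseChange φP).obj (DRing.toD K) ≅ Q.obj H :=
    (DRing.LBaseChange φP).mapIso eK ≪≫ eHP ≪≫ asIso (Q.map (cmp φP I J j F))
  -- (5) `Rψ` of the `Hom` complex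
  haveI : FP.IsKProjective :=
    Groth.Agent.Lib.Helper26.AdjKProj.isKProjective_map
      (ModuleCat.extendRestrictScalarsAdj.{u, u, u} φP) F
  haveI : H.IsKInjective := isKInjective_homCx FP J
  obtain ⟨eR⟩ := nonempty_Rψ_iso ψ Rψ adj H
  let C : DRing.Cx B := coextC ψ J
  let FB : DRing.Cx B := (eC φB).obj F
  let eFB : (eC ψ).obj FP ≅ FB := extCxCompIso' φP ψ φB hcomp F
  let eW : coextC ψ H ≅ DRing.homCx FB C :=
    coextHomIso ψ FP J ≪≫ homCxPreIso eFB.symm C
  let eLHS : Rψ.obj ((DRing.LBaseChange φP).obj (DRing.toD K)) ≅ Q.obj (DRing.homCx FB C) :=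
    Rψ.mapIso eL ≪≫ eR ≪≫ Q.mapIso eW
  -- (6) the right hand side
  obtain ⟨eRJ⟩ := nonempty_Rψ_iso ψ Rψ adj J
  let eωB : Rψ.obj ((DRing.LBaseChange φP).obj ω) ≅ Q.obj C := Rψ.mapIso ιJ.symm ≪≫ eRJ
  haveI : FB.IsKProjective :=
    Groth.Agent.Lib.Helper26.AdjKProj.isKProjective_map
      (ModuleCat.extendRestrictScalarsAdj.{u, u, u} φB) F
  let eFBE : DRing.toD FB ≅ DRing.toD E :=
    (Groth.Agent.Lib.Helper32.LBC.lbcIso φB F).symm ≪≫ (DRing.LBaseChange φB).mapIso eF ≪≫ eE.symm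
  obtain ⟨e5⟩ := nonempty_rhom_iso E FB eFBE (C⟦n⟧)
  let eRHS : (DRing.RHomCx E).obj ((Rψ.obj ((DRing.LBaseChange φP).obj ω))⟦n⟧) ≅
      Q.obj (DRing.homCx FB (C⟦n⟧)) :=
    (DRing.RHomCx E).mapIso ((CategoryTheory.shiftFunctor (Dual.D B) n).mapIso eωB ≪≫
      ((Q.commShiftIso n).app C).symm) ≪≫ e5
  exact ⟨(CategoryTheory.shiftFunctor (Dual.D B) n).mapIso eLHS ≪≫
    ((Q.commShiftIso n).app (DRing.homCx FB C)).symm ≪≫
    Q.mapIso (homCxShiftIso FB C n) ≪≫ eRHS.symm⟩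

end core

end Groth.Agent.Lib.Helper90.DualBC
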